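import Groth.Agent.L05.TorsorGlue.Algebra
import Mathlib.AlgebraicGeometry.Pullbacks
import Mathlib.AlgebraicGeometry.AffineScheme
import Mathlib.CategoryTheory.Monoidal.Cartesian.Over

/-! # Morphisms into affine schemes descend along a glueing pair -/

set_option autoImplicit false
set_option backward.isDefEq.respectTransparency.types false

universe u

open CategoryTheory CategoryTheory.Limits MonoidalCategory CartesianMonoidalCategory AlgebraicGeometry
open TensorProduct

noncomputable section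

namespace Groth.L05.TorsorGlue

variable (R : Type u) [CommRing R]

/-- `Spec C` over `Spec R` -/
abbrev sp (C : Type u) [CommRing C] [Algebra R C] : Over (Spec (CommRingCat.of R)) :=
  Over.mk (Spec.map (CommRingCat.ofHom (algebraMap R C)))

variable {R}

/-- functoriality of `sp` -/
def spMap {C D : Type u} [CommRing C] [Algebra R C] [CommRing D] [Algebra R D] (φ : C →ₐ[R] D) :
    sp R D ⟶ sp R C :=
  Over.homMk (Spec.map (CommRingCat.ofHom φ.toRingHom)) (by
    show Spec.map _ ≫ Spec.map _ = Spec.map _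
    rw [← Spec.map_comp, ← CommRingCat.ofHom_comp]
    exact congrArg (fun g => Spec.map (CommRingCat.ofHom g)) φ.comp_algebraMap)

@[simp] theorem spMap_left {C D : Type u} [CommRing C] [Algebra R C] [CommRing D] [Algebra R D]
    (φ : C →ₐ[R] D) : (spMap φ).left = Spec.map (CommRingCat.ofHom φ.toRingHom) := rfl

theorem spMap_comp {C D E : Type u} [CommRing C] [Algebra R C] [CommRing D] [Algebra R D] [CommRing E]
    [Algebra R E] (φ : C →ₐ[R] D) (ψ : D →ₐ[R] E) : spMap (ψ.comp φ) = spMap ψ ≫ spMap φ := by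
  ext : 1
  rw [Over.comp_left]
  show Spec.map _ = Spec.map _ ≫ Spec.map _
  rw [← Spec.map_comp, ← CommRingCat.ofHom_comp]
  rfl

theorem spMap_injective {C D : Type u} [CommRing C] [Algebra R C] [CommRing D] [Algebra R D]
    {φ ψ : C →ₐ[R] D} (h : spMap φ = spMap ψ) : φ = ψ :=
  AlgHom.coe_ringHom_injective (congrArg CommRingCat.Hom.hom (Spec.map_injective (congrArg CommaMorphism.left h)))

theorem spMap_surjective {C D : Type u} [CommRing C] [Algebra R C] [CommRing D] [Algebra R D]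
    (m : sp R D ⟶ sp R C) : ∃ φ : C →ₐ[R] D, spMap φ = m := by
  obtain ⟨ρ, hρ⟩ := Spec.map_surjective m.left
  have hw : CommRingCat.ofHom (algebraMap R C) ≫ ρ = CommRingCat.ofHom (algebraMap R D) := by
    refine Spec.map_injective ?_
    rw [Spec.map_comp, hρ]
    exact Over.w m
  refine ⟨{ ρ.hom with commutes' := fun r => congrArg (fun g => g.hom r) hw }, ?_⟩
  ext : 1
  exact hρ

theorem isIso_spMap_iff {C D : Type u} [CommRing C] [Algebra R C] [CommRing D] [Algebra R D]
    (φ : C →ₐ[R] D) : IsIso (spMap φ) ↔ Function.Bijective φ := by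
  constructor
  · intro h
    haveI : IsIso (Spec.map (CommRingCat.ofHom φ.toRingHom)) :=
      inferInstanceAs (IsIso ((Over.forget _).map (spMap φ)))
    haveI : IsIso (Scheme.Spec.map (CommRingCat.ofHom φ.toRingHom).op) := ‹_›
    haveI : IsIso (CommRingCat.ofHom φ.toRingHom).op := isIso_of_reflects_iso _ Scheme.Spec
    haveI : IsIso (CommRingCat.ofHom φ.toRingHom) := isIso_of_op _
    exact (ConcreteCategory.isIso_iff_bijective (CommRingCat.ofHom φ.toRingHom)).mp inferInstance
  · intro h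
    haveI : IsIso (CommRingCat.ofHom φ.toRingHom) := (ConcreteCategory.isIso_iff_bijective _).mpr h
    haveI : IsIso ((Over.forget _).map (spMap φ)) :=
      inferInstanceAs (IsIso (Spec.map (CommRingCat.ofHom φ.toRingHom)))
    exact isIso_of_reflects_iso (spMap φ) (Over.forget _)

/-- the product of affine schemes -/
def spI (C D : Type u) [CommRing C] [Algebra R C] [CommRing D] [Algebra R D] :
    sp R (C ⊗[R] D) ≅ sp R C ⊗ sp R D :=
  Over.isoMk (pullbackSpecIso R C D).symm (by
    show (pullbackSpecIso R C D).inv ≫ pullback.fst _ _ ≫ Spec.map _ = Spec.map _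
    rw [pullbackSpecIso_inv_fst_assoc, ← Spec.map_comp]
    rfl)

variable {C D : Type u} [CommRing C] [Algebra R C] [CommRing D] [Algebra R D]

@[reassoc (attr := simp)] theorem spI_hom_fst :
    (spI C D).hom ≫ fst (sp R C) (sp R D) = spMap (Algebra.TensorProduct.includeLeft : C →ₐ[R] C ⊗[R] D) := by
  ext : 1
  exact pullbackSpecIso_inv_fst R C D

@[reassoc (attr := simp)] theorem spI_hom_snd :
    (spI C D).hom ≫ snd (sp R C) (sp R D) = spMap (Algebra.TensorProduct.includeRight : D →ₐ[R] C ⊗[R] D) := by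
  ext : 1
  exact pullbackSpecIso_inv_snd R C D

theorem spI_natural {C' : Type u} [CommRing C'] [Algebra R C'] (φ : C →ₐ[R] C') :
    (spI C' D).hom ≫ (spMap φ ▷ sp R D) =
      spMap (Algebra.TensorProduct.map φ (AlgHom.id R D)) ≫ (spI C D).hom := by
  refine CartesianMonoidalCategory.hom_ext _ _ ?_ ?_
  · rw [Category.assoc, whiskerRight_fst, spI_hom_fst_assoc, Category.assoc, spI_hom_fst,
      ← spMap_comp, ← spMap_comp, Algebra.TensorProduct.map_comp_includeLeft]
  · rw [Category.assoc, whiskerRight_snd, spI_hom_snd, Category.assoc, spI_hom_snd,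
      ← spMap_comp, Algebra.TensorProduct.map_comp_includeRight, AlgHom.comp_id]

/-- An affine object over `Spec R` is some `sp A`. -/
theorem exists_iso_sp (Y : Over (Spec (CommRingCat.of R))) [IsAffine Y.left] :
    ∃ (A : Type u) (_ : CommRing A) (_ : Algebra R A), Nonempty (sp R A ≅ Y) := by
  obtain ⟨ρ, hρ⟩ := Spec.map_surjective (Y.left.isoSpec.inv ≫ Y.hom)
  letI : Algebra R Γ(Y.left, ⊤) := ρ.hom.toAlgebra
  refine ⟨Γ(Y.left, ⊤), inferInstance, inferInstance, ⟨Over.isoMk Y.left.isoSpec.symm ?_⟩⟩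
  show Y.left.isoSpec.inv ≫ Y.hom = Spec.map (CommRingCat.ofHom (algebraMap R _))
  rw [← hρ]
  rfl

section Descent

variable {R' : Type u} [CommRing R'] [Algebra R R'] {f : R} (h : EtGlue.IsGlueingPair R R' f)

local notation "S'" => sp R R'
local notation "S₁" => sp R (Loc₁ R f)
local notation "S''" => sp R (Loc' R R' f)

/-- `S'' → S'` -/
abbrev ov' : sp R (Loc' R R' f) ⟶ sp R R' := spMap (j' R R' f)

/-- `S'' → S₁` -/
abbrev ov₁ : sp R (Loc' R R' f) ⟶ sp R (Loc₁ R f) := spMap (j₁ R R' f)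

variable (R' f) in
/-- The property that morphisms from `T` to affine objects descend. -/
def Desc (T : Over (Spec (CommRingCat.of R))) : Prop :=
  ∀ (Y : Over (Spec (CommRingCat.of R))), IsAffine Y.left → ∀ (a : sp R R' ⊗ T ⟶ Y)
    (a₁ : sp R (Loc₁ R f) ⊗ T ⟶ Y),
    ((ov' (f := f)) ▷ T) ≫ a = ((ov₁ (R' := R') (f := f)) ▷ T) ≫ a₁ →
      ∃! m : T ⟶ Y, snd _ T ≫ m = a ∧ snd _ T ≫ m = a₁

include h

theorem desc_sp (C : Type u) [CommRing C] [Algebra R C] [Module.Flat R C] : Desc R' f (sp R C) := by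
  intro Y hY a a₁ hag
  obtain ⟨A, _, _, ⟨eY⟩⟩ := exists_iso_sp Y
  obtain ⟨α, hα⟩ := spMap_surjective ((spI R' C).hom ≫ a ≫ eY.inv)
  obtain ⟨α₁, hα₁⟩ := spMap_surjective ((spI (Loc₁ R f) C).hom ≫ a₁ ≫ eY.inv)
  have hag' : (Algebra.TensorProduct.map (j' R R' f) (AlgHom.id R C)).comp α =
      (Algebra.TensorProduct.map (j₁ R R' f) (AlgHom.id R C)).comp α₁ := by
    refine spMap_injective ?_
    rw [spMap_comp, spMap_comp, hα, hα₁, ← Category.assoc, ← spI_natural, ← Category.assoc (spMap _),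
      ← spI_natural, Category.assoc, Category.assoc, reassoc_of% hag]
  have key : ∀ x, ∃! c : C, (1 : R') ⊗ₜ[R] c = α x ∧ (1 : Loc₁ R f) ⊗ₜ[R] c = α₁ x := fun x =>
    existsUnique_tensor h C (α x) (α₁ x) (AlgHom.congr_fun hag' x)
  choose μ hμ huniq using key
  let μA : A →ₐ[R] C :=
    { toFun := μ
      map_one' := (huniq 1 1 ⟨by rw [map_one]; rfl, by rw [map_one]; rfl⟩).symm
      map_mul' := fun x y => (huniq _ _ ⟨by
          rw [map_mul, ← (hμ x).1, ← (hμ y).1, Algebra.TensorProduct.tmul_mul_tmul, one_mul],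
        by rw [map_mul, ← (hμ x).2, ← (hμ y).2, Algebra.TensorProduct.tmul_mul_tmul, one_mul]⟩).symm
      map_zero' := (huniq 0 0 ⟨by rw [map_zero, tmul_zero], by rw [map_zero, tmul_zero]⟩).symm
      map_add' := fun x y => (huniq _ _ ⟨by rw [map_add, tmul_add, (hμ x).1, (hμ y).1],
        by rw [map_add, tmul_add, (hμ x).2, (hμ y).2]⟩).symm
      commutes' := fun r => (huniq _ _ ⟨by
          rw [AlgHom.commutes, Algebra.algebraMap_eq_smul_one, tmul_smul, Algebra.algebraMap_eq_smul_one]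
          rfl,
        by
          rw [AlgHom.commutes, Algebra.algebraMap_eq_smul_one, tmul_smul, Algebra.algebraMap_eq_smul_one]
          rfl⟩).symm }
  refine ⟨spMap μA ≫ eY.hom, ⟨?_, ?_⟩, ?_⟩
  · rw [← cancel_epi (spI R' C).hom, spI_hom_snd_assoc, ← Category.assoc (spMap _), ← spMap_comp,
      show Algebra.TensorProduct.includeRight.comp μA = α from AlgHom.ext fun x => (hμ x).1, hα]
    simp
  · rw [← cancel_epi (spI (Loc₁ R f) C).hom, spI_hom_snd_assoc, ← Category.assoc (spMap _), ← spMap_comp,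
      show Algebra.TensorProduct.includeRight.comp μA = α₁ from AlgHom.ext fun x => (hμ x).2, hα₁]
    simp
  · rintro m ⟨hm, hm₁⟩
    obtain ⟨ν, hν⟩ := spMap_surjective (m ≫ eY.inv)
    have h1 : Algebra.TensorProduct.includeRight.comp ν = α := spMap_injective (by
      rw [spMap_comp, hν, hα, ← spI_hom_snd (R := R) (C := R') (D := C), Category.assoc, reassoc_of% hm])
    have h2 : Algebra.TensorProduct.includeRight.comp ν = α₁ := spMap_injective (by
      rw [spMap_comp, hν, hα₁, ← spI_hom_snd (R := R) (C := Loc₁ R f) (D := C), Category.assoc,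
        reassoc_of% hm₁])
    have : ν = μA := AlgHom.ext fun x => huniq x (ν x) ⟨AlgHom.congr_fun h1 x, AlgHom.congr_fun h2 x⟩
    rw [← this, hν, Category.assoc, eY.inv_hom_id, Category.comp_id]

omit h in
theorem desc_of_iso {T T' : Over (Spec (CommRingCat.of R))} (e : T ≅ T') (hT : Desc R' f T) :
    Desc R' f T' := by
  intro Y hY a a₁ hag
  obtain ⟨m, ⟨hm, hm₁⟩, hu⟩ := hT Y hY (sp R R' ◁ e.hom ≫ a) (sp R (Loc₁ R f) ◁ e.hom ≫ a₁) (by
    rw [← whisker_exchange_assoc, ← whisker_exchange_assoc, hag])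
  refine ⟨e.inv ≫ m, ⟨?_, ?_⟩, fun m' hm' => ?_⟩
  · rw [← cancel_epi (sp R R' ◁ e.hom), whiskerLeft_snd_assoc, e.hom_inv_id_assoc, hm]
  · rw [← cancel_epi (sp R (Loc₁ R f) ◁ e.hom), whiskerLeft_snd_assoc, e.hom_inv_id_assoc, hm₁]
  · rw [← hu (e.hom ≫ m') ⟨by rw [← whiskerLeft_snd_assoc, hm'.1], by rw [← whiskerLeft_snd_assoc, hm'.2]⟩,
      e.inv_hom_id_assoc]

end Descent

end Groth.L05.TorsorGlue
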