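import Groth.Agent.L05.Glue.Modules
import Groth.Agent.L05.Glue.Algebra
import Mathlib.RingTheory.Localization.BaseChange
import Mathlib.RingTheory.Flat.Basic
import Mathlib.LinearAlgebra.TensorProduct.Prod
import Mathlib.RingTheory.Spectrum.Prime.RingHom
import Mathlib.RingTheory.Spectrum.Prime.Topology

/-! # Descent of elements and algebras along a glueing pair -/

set_option autoImplicit false

universe u

open TensorProduct

noncomputable section

namespace Groth.L05.TorsorGlue

open EtGlue

variable (R R' : Type u) [CommRing R] [CommRing R'] [Algebra R R'] (f : R)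

/-- the localisation `R_f` -/
abbrev Loc₁ : Type u := Localization.Away f

/-- the overlap `R'_f` -/
abbrev Loc' : Type u := Localization.Away (algebraMap R R' f)

/-- `R' → R'_f` -/
def j' : R' →ₐ[R] Loc' R R' f := IsScalarTower.toAlgHom R R' _

/-- `R_f → R'_f` -/
def j₁ : Loc₁ R f →ₐ[R] Loc' R R' f :=
  { Localization.awayMap (algebraMap R R') f with
    commutes' := fun r => by
      show Localization.awayMap (algebraMap R R') f (algebraMap R (Loc₁ R f) r) = _
      rw [Localization.awayMap, IsLocalization.Away.map, IsLocalization.map_eq,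
        ← IsScalarTower.algebraMap_apply] }

theorem j₁_apply (y : Loc₁ R f) : j₁ R R' f y = Localization.awayMap (algebraMap R R') f y := rfl

variable {R R' f}

/-- An algebra hom between localisations is bijective. -/
theorem bijective_of_isLocalization {B T₁ T₂ : Type u} [CommRing B] [CommRing T₁] [CommRing T₂]
    [Algebra B T₁] [Algebra B T₂] (M : Submonoid B) [IsLocalization M T₁] [IsLocalization M T₂]
    (g : T₁ →ₐ[B] T₂) : Function.Bijective g := by
  have h : g = (IsLocalization.algEquiv M T₁ T₂).toAlgHom := IsLocalization.algHom_ext M (by ext)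
  rw [h]
  exact (IsLocalization.algEquiv M T₁ T₂).bijective

/-- `R' ⊗ R_f = R'_f`. -/
theorem bijective_lift_j₁ : Function.Bijective (Algebra.TensorProduct.lift
    (IsScalarTower.toAlgHom R' R' (Loc' R R' f)) (j₁ R R' f) (fun _ _ => Commute.all _ _)) :=
  bijective_of_isLocalization (Submonoid.powers (algebraMap R R' f)) _

/-- Elements of a flat algebra descend along a glueing pair. -/
theorem existsUnique_tensor (h : IsGlueingPair R R' f) (C : Type u) [AddCommGroup C] [Module R C]
    [Module.Flat R C] (x : R' ⊗[R] C) (y : Loc₁ R f ⊗[R] C)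
    (hxy : (j' R R' f).toLinearMap.rTensor C x = (j₁ R R' f).toLinearMap.rTensor C y) :
    ∃! c : C, (1 : R') ⊗ₜ[R] c = x ∧ (1 : Loc₁ R f) ⊗ₜ[R] c = y := by
  let u : R →ₗ[R] R' × Loc₁ R f := (Algebra.linearMap R R').prod (Algebra.linearMap R _)
  let v : R' × Loc₁ R f →ₗ[R] Loc' R R' f :=
    (j' R R' f).toLinearMap.comp (LinearMap.fst R _ _) - (j₁ R R' f).toLinearMap.comp (LinearMap.snd R _ _)
  have hu : Function.Injective u := h.2.1
  have huv : Function.Exact u v := by
    intro z
    constructor
    · intro hz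
      obtain ⟨r, h1, h2⟩ := h.2.2.1 z.1 z.2 (sub_eq_zero.mp hz)
      exact ⟨r, Prod.ext h1 h2⟩
    · rintro ⟨r, rfl⟩
      show j' R R' f (algebraMap R R' r) - j₁ R R' f (algebraMap R _ r) = 0
      rw [AlgHom.commutes, AlgHom.commutes, sub_self]
  let e := TensorProduct.prodLeft R R R' (Loc₁ R f) C
  have hv : ∀ w : (R' × Loc₁ R f) ⊗[R] C, v.rTensor C w =
      (j' R R' f).toLinearMap.rTensor C (e w).1 - (j₁ R R' f).toLinearMap.rTensor C (e w).2 := by
    intro w
    induction w with
    | zero => simp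
    | tmul z c => obtain ⟨a, b⟩ := z; simp [e, v, sub_tmul, TensorProduct.prodLeft_tmul]
    | add a b ha hb => rw [map_add, ha, hb, map_add, Prod.fst_add, Prod.snd_add, map_add, map_add]; abel
  have hc : ∀ c : C, e (u.rTensor C ((1 : R) ⊗ₜ[R] c)) = ((1 : R') ⊗ₜ[R] c, (1 : Loc₁ R f) ⊗ₜ[R] c) :=
    fun c => by simp [e, u, TensorProduct.prodLeft_tmul]
  have hker : v.rTensor C (e.symm (x, y)) = 0 := by rw [hv, e.apply_symm_apply, hxy, sub_self]
  obtain ⟨w, hw⟩ := (Module.Flat.rTensor_exact C huv _).mp hker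
  obtain ⟨c, rfl⟩ := (TensorProduct.lid R C).symm.surjective w
  rw [TensorProduct.lid_symm_apply] at hw
  have hxy' := (hc c).symm.trans ((congrArg e hw).trans (e.apply_symm_apply _))
  refine ⟨c, Prod.ext_iff.mp hxy', fun c' hc' => ?_⟩
  have h1 : (1 : R) ⊗ₜ[R] c' = (1 : R) ⊗ₜ[R] c := by
    refine Module.Flat.rTensor_preserves_injective_linearMap u hu (e.injective ?_)
    rw [hc, hc, hc'.1, hc'.2, ← hxy']
  simpa using congrArg (TensorProduct.lid R C) h1

/-- An algebra glued from its restrictions to `R'` and `R_f`. -/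
theorem exists_glued (h : IsGlueingPair R R' f) (A₁ : Type u) [CommRing A₁] [Algebra R A₁]
    [Algebra (Loc₁ R f) A₁] [IsScalarTower R (Loc₁ R f) A₁]
    (A' : Type u) [CommRing A'] [Algebra R A'] [Algebra R' A'] [IsScalarTower R R' A']
    (A'' : Type u) [CommRing A''] [Algebra R A''] [Algebra R' A''] [IsScalarTower R R' A'']
    [Algebra A' A''] [IsScalarTower R' A' A''] [IsLocalization.Away (algebraMap R A' f) A'']
    (i₁ : A₁ →ₐ[R] A'')
    (hK : Function.Bijective (Algebra.TensorProduct.lift (IsScalarTower.toAlgHom R' R' A'') i₁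
      (fun _ _ => Commute.all _ _))) :
    ∃ (B : Type u) (_ : CommRing B) (_ : Algebra R B) (p : B →ₐ[R] A') (q : B →ₐ[R] A₁),
      (∀ b, algebraMap A' A'' (p b) = i₁ (q b)) ∧
      Function.Bijective (Algebra.TensorProduct.lift (IsScalarTower.toAlgHom R' R' A') p
        (fun _ _ => Commute.all _ _)) ∧
      Function.Bijective (Algebra.TensorProduct.lift (IsScalarTower.toAlgHom (Loc₁ R f) (Loc₁ R f) A₁) q
        (fun _ _ => Commute.all _ _)) := by
  let K := AlgEquiv.ofBijective _ hK
  let η : Localization.Away (algebraMap R A' f) ≃ₐ[A'] A'' :=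
    IsLocalization.algEquiv (Submonoid.powers (algebraMap R A' f)) _ _
  let φ : Localization.Away (algebraMap R A' f) ≃ₐ[R'] R' ⊗[R] A₁ :=
    (η.restrictScalars R').trans K.symm
  have h₁ : IsUnit (algebraMap R A₁ f) := by
    rw [IsScalarTower.algebraMap_apply R (Loc₁ R f) A₁]
    exact (IsLocalization.Away.algebraMap_isUnit f).map _
  obtain ⟨B, _, _, -, e₁, e', hcomp⟩ := Glue.exists_glued_algebra h A₁ h₁ A' φ
  let p : B →ₐ[R] A' := (e'.toAlgHom.restrictScalars R).comp Algebra.TensorProduct.includeRight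
  let q : B →ₐ[R] A₁ := e₁.toAlgHom.comp (IsScalarTower.toAlgHom R B _)
  refine ⟨B, inferInstance, inferInstance, p, q, fun b => ?_, ?_, ?_⟩
  · have h1 := congrArg K (hcomp b)
    rw [show ∀ z, φ z = K.symm (η z) from fun _ => rfl, K.apply_symm_apply, AlgEquiv.commutes] at h1
    refine h1.trans ?_
    show Algebra.TensorProduct.lift (IsScalarTower.toAlgHom R' R' A'') i₁ (fun _ _ => Commute.all _ _)
      ((1 : R') ⊗ₜ[R] q b) = _
    rw [Algebra.TensorProduct.lift_tmul, map_one, one_mul]
  · rw [show Algebra.TensorProduct.lift (IsScalarTower.toAlgHom R' R' A') p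
      (fun _ _ => Commute.all _ _) = e'.toAlgHom from Algebra.TensorProduct.ext (by ext) (by ext b; simp [p])]
    exact e'.bijective
  · letI : Algebra B (Loc₁ R f ⊗[R] B) := Algebra.TensorProduct.rightAlgebra
    letI : Algebra B A₁ := q.toRingHom.toAlgebra
    haveI : IsScalarTower R B A₁ := IsScalarTower.of_algebraMap_eq fun r => (q.commutes r).symm
    haveI : IsLocalization.Away (algebraMap R B f) A₁ :=
      IsLocalization.isLocalization_of_algEquiv _ ({ e₁ with commutes' := fun _ => rfl } :
        Localization.Away (algebraMap R B f) ≃ₐ[B] A₁)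
    haveI : IsLocalization.Away (algebraMap R B f) (Loc₁ R f ⊗[R] B) :=
      IsLocalization.Away.tensorRight f (Loc₁ R f)
    let g := Algebra.TensorProduct.lift (IsScalarTower.toAlgHom (Loc₁ R f) (Loc₁ R f) A₁) q
      (fun _ _ => Commute.all _ _)
    have hg : ∀ b : B, g ((1 : Loc₁ R f) ⊗ₜ[R] b) = q b := fun b => by simp [g]
    exact bijective_of_isLocalization (Submonoid.powers (algebraMap R B f))
      ({ g.toRingHom with commutes' := hg } : Loc₁ R f ⊗[R] B →ₐ[B] A₁)

/-- In a glueing pair every prime comes from one of the two rings. -/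
theorem exists_comap_eq (h : QuotPowBijective R R' f) (p : PrimeSpectrum R) :
    (∃ q : PrimeSpectrum R', PrimeSpectrum.comap (algebraMap R R') q = p) ∨
      ∃ q : PrimeSpectrum (Loc₁ R f), PrimeSpectrum.comap (algebraMap R (Loc₁ R f)) q = p := by
  by_cases hp : f ∈ p.asIdeal
  · left
    let e := RingEquiv.ofBijective _ (h 1 one_pos)
    have hle : RingHom.ker (Ideal.Quotient.mk (Ideal.span {f ^ 1})) ≤ p.asIdeal := by
      rw [Ideal.mk_ker, Ideal.span_singleton_le_iff_mem, pow_one]
      exact hp
    obtain ⟨s, hs⟩ : p ∈ Set.range (PrimeSpectrum.comap (Ideal.Quotient.mk (Ideal.span {f ^ 1}))) := by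
      rw [range_comap_of_surjective _ _ Ideal.Quotient.mk_surjective]
      exact hle
    let σ : R' →+* R ⧸ Ideal.span {f ^ 1} := e.symm.toRingHom.comp (Ideal.Quotient.mk _)
    have hσ : σ.comp (algebraMap R R') = Ideal.Quotient.mk _ := by
      ext r
      exact e.symm_apply_eq.mpr (Ideal.quotientMap_mk (H := Ideal.le_comap_map)).symm
    refine ⟨PrimeSpectrum.comap σ s, ?_⟩
    rw [← hs, ← hσ]
    rfl
  · right
    exact ((PrimeSpectrum.localization_away_comap_range (Loc₁ R f) f).symm ▸ hp :
      p ∈ Set.range (PrimeSpectrum.comap (algebraMap R (Loc₁ R f))))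

end Groth.L05.TorsorGlue
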