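import Groth.Agent.L05.TorsorGlue.Affine
import Groth.Prelude.Def_NonAbH2
import Mathlib.AlgebraicGeometry.Morphisms.Flat
import Mathlib.AlgebraicGeometry.Morphisms.FinitePresentation
import Mathlib.AlgebraicGeometry.Sites.Fpqc

/-! # Torsors glued along a glueing pair -/

set_option autoImplicit false
set_option backward.isDefEq.respectTransparency.types false

universe u

open CategoryTheory CategoryTheory.Limits MonoidalCategory CartesianMonoidalCategory MonObj GrpObj AlgebraicGeometry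
open scoped TensorProduct

noncomputable section

namespace Groth.L05.TorsorGlue

variable {R R' : Type u} [CommRing R] [CommRing R'] [Algebra R R'] {f : R}

theorem eq_of_desc {T Y : Over (Spec (CommRingCat.of R))} (hT : Desc R' f T) [IsAffine Y.left] {m m' : T ⟶ Y}
    (h' : snd (sp R R') T ≫ m = snd (sp R R') T ≫ m')
    (h₁ : snd (sp R (Loc₁ R f)) T ≫ m = snd (sp R (Loc₁ R f)) T ≫ m') : m = m' :=
  (hT Y inferInstance _ _ (by rw [← Category.assoc, whiskerRight_snd, ← Category.assoc, whiskerRight_snd])).unique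
    ⟨h', h₁⟩ ⟨rfl, rfl⟩

section Chart

variable {C : Type u} {S₀ G X : Over (Spec (CommRingCat.of R))} (ψ : S₀ ⊗ G ⟶ X) [IsIso (lift (fst S₀ G) ψ)]

/-- the inverse of a chart -/
def chartInv : S₀ ⊗ X ⟶ G := inv (lift (fst S₀ G) ψ) ≫ snd S₀ G

theorem chartInv_chart {T : Over (Spec (CommRingCat.of R))} (s : T ⟶ S₀) (z : T ⟶ G) :
    lift s (lift s z ≫ ψ) ≫ chartInv ψ = z := by
  rw [show lift s (lift s z ≫ ψ) = lift s z ≫ lift (fst S₀ G) ψ by rw [comp_lift, lift_fst], chartInv,
    Category.assoc, IsIso.hom_inv_id_assoc, lift_snd]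

theorem chart_chartInv {T : Over (Spec (CommRingCat.of R))} (s : T ⟶ S₀) (x : T ⟶ X) :
    lift s (lift s x ≫ chartInv ψ) ≫ ψ = x := by
  have h1 : inv (lift (fst S₀ G) ψ) ≫ fst S₀ G = fst S₀ X := by rw [IsIso.inv_comp_eq, lift_fst]
  have h2 : inv (lift (fst S₀ G) ψ) ≫ ψ = snd S₀ X := by rw [IsIso.inv_comp_eq, lift_snd]
  have h3 : lift s (lift s x ≫ chartInv ψ) = lift s x ≫ inv (lift (fst S₀ G) ψ) := by
    refine CartesianMonoidalCategory.hom_ext _ _ ?_ ?_
    · rw [lift_fst, Category.assoc, h1, lift_fst]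
    · rw [lift_snd, Category.assoc]; rfl
  rw [h3, Category.assoc, h2, lift_snd]

end Chart

/-- The torsor structure on an object glued from two trivial torsors. -/
theorem exists_action {G X : Over (Spec (CommRingCat.of R))} [GrpObj G] [IsAffine G.left] [IsAffine X.left]
    (g : sp R (Loc' R R' f) ⟶ G) (ψ' : sp R R' ⊗ G ⟶ X) (ψ₁ : sp R (Loc₁ R f) ⊗ G ⟶ X)
    [IsIso (lift (fst (sp R R') G) ψ')] [IsIso (lift (fst (sp R (Loc₁ R f)) G) ψ₁)]
    (compat : ∀ (T : Over (Spec (CommRingCat.of R))) (s : T ⟶ sp R (Loc' R R' f)) (z : T ⟶ G),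
      lift (s ≫ ov' (f := f)) z ≫ ψ' = lift (s ≫ ov₁ (R' := R') (f := f)) (z * (s ≫ g)) ≫ ψ₁)
    (dX : Desc R' f X) (dGX : Desc R' f (G ⊗ X)) (dXX : Desc R' f (X ⊗ X))
    (dGGX : Desc R' f ((G ⊗ G) ⊗ X)) :
    ∃ a : AlgGrp.Action G X, NonAbH1.IsPseudoTorsorSch a ∧
      ∀ (T : Over (Spec (CommRingCat.of R))) (s : T ⟶ sp R (Loc' R R' f)) (x : T ⟶ X),
        lift (s ≫ ov₁ (R' := R') (f := f)) x ≫ chartInv ψ₁ =
          (lift (s ≫ ov' (f := f)) x ≫ chartInv ψ') * (s ≫ g) := by
  set φ' := chartInv ψ'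
  set φ₁ := chartInv ψ₁
  have hφ : ∀ (T : Over (Spec (CommRingCat.of R))) (s : T ⟶ sp R (Loc' R R' f)) (x : T ⟶ X),
      lift (s ≫ ov₁ (R' := R') (f := f)) x ≫ φ₁ = (lift (s ≫ ov' (f := f)) x ≫ φ') * (s ≫ g) := by
    intro T s x
    conv_lhs => rw [← chart_chartInv ψ' (s ≫ ov' (f := f)) x, compat]
    exact chartInv_chart ψ₁ _ _
  obtain ⟨act, ⟨hact', hact₁⟩, -⟩ := dGX X inferInstance
    (lift (fst _ _) ((snd _ _ ≫ fst G X) * (lift (fst _ _) (snd _ _ ≫ snd G X) ≫ φ')) ≫ ψ')
    (lift (fst _ _) ((snd _ _ ≫ fst G X) * (lift (fst _ _) (snd _ _ ≫ snd G X) ≫ φ₁)) ≫ ψ₁) (by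
      simp only [comp_lift_assoc, comp_mul, comp_lift, whiskerRight_fst, ← Category.assoc, whiskerRight_snd]
      rw [compat, hφ, _root_.mul_assoc])
  have act' : ∀ {T : Over (Spec (CommRingCat.of R))} (s : T ⟶ sp R R') (γ : T ⟶ G) (x : T ⟶ X),
      lift γ x ≫ act = lift s (γ * (lift s x ≫ φ')) ≫ ψ' := fun s γ x => by
    rw [← lift_snd s (lift γ x), Category.assoc, hact']
    simp only [comp_lift_assoc, comp_mul, comp_lift, ← Category.assoc, lift_fst, lift_snd]
  have act₁ : ∀ {T : Over (Spec (CommRingCat.of R))} (s : T ⟶ sp R (Loc₁ R f)) (γ : T ⟶ G) (x : T ⟶ X),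
      lift γ x ≫ act = lift s (γ * (lift s x ≫ φ₁)) ≫ ψ₁ := fun s γ x => by
    rw [← lift_snd s (lift γ x), Category.assoc, hact₁]
    simp only [comp_lift_assoc, comp_mul, comp_lift, ← Category.assoc, lift_fst, lift_snd]
  have hone : lift (1 : X ⟶ G) (𝟙 X) ≫ act = 𝟙 X := by
    refine eq_of_desc dX ?_ ?_
    · rw [← Category.assoc, comp_lift, comp_one, Category.comp_id, act' (fst _ _), _root_.one_mul,
        chart_chartInv]
    · rw [← Category.assoc, comp_lift, comp_one, Category.comp_id, act₁ (fst _ _), _root_.one_mul,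
        chart_chartInv]
  let a : AlgGrp.Action G X :=
    { act := act
      one_act := by
        rw [← cancel_epi (λ_ X).inv, Iso.inv_hom_id]
        refine Eq.trans ?_ hone
        rw [← Category.assoc]
        congr 1
        refine CartesianMonoidalCategory.hom_ext _ _ ?_ ?_
        · rw [lift_fst, Category.assoc, whiskerRight_fst, Hom.one_def, ← Category.assoc]
          congr 1
          exact toUnit_unique _ _
        · rw [lift_snd, Category.assoc, whiskerRight_snd, leftUnitor_inv_snd]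
      mul_act := by
        rw [← cancel_epi (α_ G G X).inv, ← Category.assoc]
        refine eq_of_desc (m := _) (desc_of_iso (α_ G G X) dGGX) ?_ ?_
        · rw [Iso.inv_hom_id_assoc]
          simp only [← Category.assoc]
          rw [show (snd (sp R R') (G ⊗ G ⊗ X) ≫ (α_ G G X).inv) ≫ μ[G] ▷ X =
              lift ((snd _ _ ≫ fst _ _) * (snd _ _ ≫ snd _ _ ≫ fst _ _)) (snd _ _ ≫ snd _ _ ≫ snd _ _) by
            refine CartesianMonoidalCategory.hom_ext _ _ ?_ ?_
            · rw [Category.assoc, whiskerRight_fst, lift_fst, show (μ[G] : G ⊗ G ⟶ G) = fst G G * snd G G by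
                rw [Hom.mul_def, lift_fst_snd, Category.id_comp]]
              simp [comp_mul]
            · simp,
            show snd (sp R R') (G ⊗ G ⊗ X) ≫ G ◁ act =
              lift (snd _ _ ≫ fst _ _) (lift (snd _ _ ≫ snd _ _ ≫ fst _ _) (snd _ _ ≫ snd _ _ ≫ snd _ _) ≫ act) by
            refine CartesianMonoidalCategory.hom_ext _ _ ?_ ?_ <;>
              simp [comp_lift, ← comp_lift_assoc],
            act' (fst _ _), act' (fst _ _) (snd _ _ ≫ fst _ _), act' (fst _ _), chartInv_chart, _root_.mul_assoc]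
        · rw [Iso.inv_hom_id_assoc]
          simp only [← Category.assoc]
          rw [show (snd (sp R (Loc₁ R f)) (G ⊗ G ⊗ X) ≫ (α_ G G X).inv) ≫ μ[G] ▷ X =
              lift ((snd _ _ ≫ fst _ _) * (snd _ _ ≫ snd _ _ ≫ fst _ _)) (snd _ _ ≫ snd _ _ ≫ snd _ _) by
            refine CartesianMonoidalCategory.hom_ext _ _ ?_ ?_
            · rw [Category.assoc, whiskerRight_fst, lift_fst, show (μ[G] : G ⊗ G ⟶ G) = fst G G * snd G G by
                rw [Hom.mul_def, lift_fst_snd, Category.id_comp]]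
              simp [comp_mul]
            · simp,
            show snd (sp R (Loc₁ R f)) (G ⊗ G ⊗ X) ≫ G ◁ act =
              lift (snd _ _ ≫ fst _ _) (lift (snd _ _ ≫ snd _ _ ≫ fst _ _) (snd _ _ ≫ snd _ _ ≫ snd _ _) ≫ act) by
            refine CartesianMonoidalCategory.hom_ext _ _ ?_ ?_ <;>
              simp [comp_lift, ← comp_lift_assoc],
            act₁ (fst _ _), act₁ (fst _ _) (snd _ _ ≫ fst _ _), act₁ (fst _ _), chartInv_chart, _root_.mul_assoc] }
  refine ⟨a, ?_, hφ⟩
  obtain ⟨d, ⟨hd', hd₁⟩, -⟩ := dXX G inferInstance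
    ((lift (fst _ _) (snd _ _ ≫ fst X X) ≫ φ') * (lift (fst _ _) (snd _ _ ≫ snd X X) ≫ φ')⁻¹)
    ((lift (fst _ _) (snd _ _ ≫ fst X X) ≫ φ₁) * (lift (fst _ _) (snd _ _ ≫ snd X X) ≫ φ₁)⁻¹) (by
      simp only [comp_mul, GrpObj.comp_inv, comp_lift_assoc, whiskerRight_fst, ← Category.assoc, whiskerRight_snd,
        comp_lift]
      rw [hφ, hφ]
      group)
  have d' : ∀ {T : Over (Spec (CommRingCat.of R))} (s : T ⟶ sp R R') (y x : T ⟶ X),
      lift y x ≫ d = (lift s y ≫ φ') * (lift s x ≫ φ')⁻¹ := fun s y x => by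
    rw [← lift_snd s (lift y x), Category.assoc, hd']
    simp only [comp_lift_assoc, comp_mul, GrpObj.comp_inv, comp_lift, ← Category.assoc, lift_fst, lift_snd]
  have d₁ : ∀ {T : Over (Spec (CommRingCat.of R))} (s : T ⟶ sp R (Loc₁ R f)) (y x : T ⟶ X),
      lift y x ≫ d = (lift s y ≫ φ₁) * (lift s x ≫ φ₁)⁻¹ := fun s y x => by
    rw [← lift_snd s (lift y x), Category.assoc, hd₁]
    simp only [comp_lift_assoc, comp_mul, GrpObj.comp_inv, comp_lift, ← Category.assoc, lift_fst, lift_snd]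
  refine ⟨⟨lift d (snd X X), ?_, ?_⟩⟩
  · have e1 : lift act (snd G X) ≫ d = fst G X := by
      refine eq_of_desc dGX ?_ ?_
      · rw [← Category.assoc, comp_lift, d' (fst _ _),
          show snd (sp R R') (G ⊗ X) ≫ act = lift (snd _ _ ≫ fst G X) (snd _ _ ≫ snd G X) ≫ act by
            rw [← comp_lift, lift_fst_snd, Category.comp_id],
          act' (fst _ _), chartInv_chart, mul_inv_cancel_right]
      · rw [← Category.assoc, comp_lift, d₁ (fst _ _),
          show snd (sp R (Loc₁ R f)) (G ⊗ X) ≫ act = lift (snd _ _ ≫ fst G X) (snd _ _ ≫ snd G X) ≫ act by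
            rw [← comp_lift, lift_fst_snd, Category.comp_id],
          act₁ (fst _ _), chartInv_chart, mul_inv_cancel_right]
    show lift act (snd G X) ≫ lift d (snd X X) = 𝟙 _
    rw [comp_lift, e1, lift_snd, lift_fst_snd]
  · have e2 : lift d (snd X X) ≫ act = fst X X := by
      refine eq_of_desc dXX ?_ ?_
      · rw [← Category.assoc, comp_lift, act' (fst _ _),
          show snd (sp R R') (X ⊗ X) ≫ d = lift (snd _ _ ≫ fst X X) (snd _ _ ≫ snd X X) ≫ d by
            rw [← comp_lift, lift_fst_snd, Category.comp_id],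
          d' (fst _ _), inv_mul_cancel_right, chart_chartInv]
      · rw [← Category.assoc, comp_lift, act₁ (fst _ _),
          show snd (sp R (Loc₁ R f)) (X ⊗ X) ≫ d = lift (snd _ _ ≫ fst X X) (snd _ _ ≫ snd X X) ≫ d by
            rw [← comp_lift, lift_fst_snd, Category.comp_id],
          d₁ (fst _ _), inv_mul_cancel_right, chart_chartInv]
    show lift d (snd X X) ≫ lift act (snd G X) = 𝟙 _
    rw [comp_lift, e2, lift_snd, lift_fst_snd]

/-- a chart given by a ring map is invertible exactly when its linear extension is bijective -/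
theorem isIso_chart_iff {C A B : Type u} [CommRing C] [Algebra R C] [CommRing A] [Algebra R A] [CommRing B]
    [Algebra R B] {G : Over (Spec (CommRingCat.of R))} (eG : sp R A ≅ G) (ψ : sp R C ⊗ G ⟶ sp R B)
    (p : B →ₐ[R] C ⊗[R] A) (hp : (spI C A).hom ≫ sp R C ◁ eG.hom ≫ ψ = spMap p) :
    IsIso (lift (fst (sp R C) G) ψ) ↔ Function.Bijective (Algebra.TensorProduct.lift
      (Algebra.TensorProduct.includeLeft : C →ₐ[R] C ⊗[R] A) p (fun _ _ => Commute.all _ _)) := by
  rw [← isIso_spMap_iff]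
  have h1 : spMap (Algebra.TensorProduct.lift (Algebra.TensorProduct.includeLeft : C →ₐ[R] C ⊗[R] A) p
      (fun _ _ => Commute.all _ _)) ≫ (spI C B).hom =
      (spI C A).hom ≫ sp R C ◁ eG.hom ≫ lift (fst (sp R C) G) ψ := by
    refine CartesianMonoidalCategory.hom_ext _ _ ?_ ?_
    · rw [Category.assoc, spI_hom_fst, ← spMap_comp, Algebra.TensorProduct.lift_comp_includeLeft]
      simp
    · rw [Category.assoc, spI_hom_snd, ← spMap_comp, Category.assoc, Category.assoc, lift_snd, hp]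
      congr 1
      ext x
      simp
  constructor
  · intro hiso
    have : IsIso (spMap (Algebra.TensorProduct.lift (Algebra.TensorProduct.includeLeft : C →ₐ[R] C ⊗[R] A) p
        (fun _ _ => Commute.all _ _)) ≫ (spI C B).hom) := by rw [h1]; infer_instance
    exact IsIso.of_isIso_comp_right _ (spI C B).hom
  · intro hiso
    have : IsIso ((spI C A).hom ≫ sp R C ◁ eG.hom ≫ lift (fst (sp R C) G) ψ) := by rw [← h1]; infer_instance
    have := IsIso.of_isIso_comp_left (spI C A).hom (sp R C ◁ eG.hom ≫ lift (fst (sp R C) G) ψ)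
    exact IsIso.of_isIso_comp_left (sp R C ◁ eG.hom) _

/-- `R'_f ⊗ A` is the localisation of `R' ⊗ A`. -/
theorem isLocalization_map_j' (A : Type u) [CommRing A] [Algebra R A] :
    letI := (Algebra.TensorProduct.map (j' R R' f) (AlgHom.id R A)).toRingHom.toAlgebra
    IsLocalization.Away (algebraMap R (R' ⊗[R] A) f) (Loc' R R' f ⊗[R] A) := by
  letI := (Algebra.TensorProduct.map (j' R R' f) (AlgHom.id R A)).toRingHom.toAlgebra
  letI : Algebra (R' ⊗[R] A) (Loc' R R' f ⊗[R'] (R' ⊗[R] A)) := Algebra.TensorProduct.rightAlgebra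
  haveI : IsLocalization.Away (algebraMap R' (R' ⊗[R] A) (algebraMap R R' f))
      (Loc' R R' f ⊗[R'] (R' ⊗[R] A)) := IsLocalization.Away.tensorRight _ _
  rw [← IsScalarTower.algebraMap_apply] at this
  let e := (Algebra.TensorProduct.cancelBaseChange R R' (Loc' R R' f) (Loc' R R' f) A)
  refine IsLocalization.isLocalization_of_algEquiv (Submonoid.powers (algebraMap R (R' ⊗[R] A) f))
    ({ e.toRingEquiv with commutes' := fun z => ?_ } :
      Loc' R R' f ⊗[R'] (R' ⊗[R] A) ≃ₐ[R' ⊗[R] A] Loc' R R' f ⊗[R] A)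
  show e ((1 : Loc' R R' f) ⊗ₜ[R'] z) = Algebra.TensorProduct.map (j' R R' f) (AlgHom.id R A) z
  induction z with
  | zero => simp
  | tmul r a =>
    simp only [e, Algebra.TensorProduct.cancelBaseChange_tmul, Algebra.TensorProduct.map_tmul, AlgHom.id_apply]
    rw [Algebra.smul_def, _root_.mul_one]
    rfl
  | add x y hx hy => rw [TensorProduct.tmul_add, map_add, hx, hy, map_add]

/-- Glueing of two trivial torsors by a point over the overlap. -/
theorem exists_charts (h : EtGlue.IsGlueingPair R R' f) {A : Type u} [CommRing A] [Algebra R A] [Module.Flat R A]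
    [Algebra.FinitePresentation R A] {G : Over (Spec (CommRingCat.of R))} [GrpObj G] (eG : sp R A ≅ G)
    (g : sp R (Loc' R R' f) ⟶ G) :
    ∃ (B : Type u) (_ : CommRing B) (_ : Algebra R B) (_ : Module.Flat R B) (_ : Algebra.FinitePresentation R B)
      (ψ' : sp R R' ⊗ G ⟶ sp R B) (ψ₁ : sp R (Loc₁ R f) ⊗ G ⟶ sp R B)
      (_ : IsIso (lift (fst (sp R R') G) ψ')) (_ : IsIso (lift (fst (sp R (Loc₁ R f)) G) ψ₁)),
      ∀ (T : Over (Spec (CommRingCat.of R))) (s : T ⟶ sp R (Loc' R R' f)) (z : T ⟶ G),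
        lift (s ≫ ov' (f := f)) z ≫ ψ' = lift (s ≫ ov₁ (R' := R') (f := f)) (z * (s ≫ g)) ≫ ψ₁ := by
  set L' := Loc' R R' f
  -- right translation by `g` on the overlap
  let Θ : sp R L' ⊗ G ⟶ G := snd _ _ * (fst _ _ ≫ g)
  obtain ⟨τ, hτ⟩ := spMap_surjective ((spI L' A).hom ≫ sp R L' ◁ eG.hom ≫ Θ ≫ eG.inv)
  have hΘ : IsIso (lift (fst (sp R L') G) (Θ ≫ eG.inv)) := by
    refine ⟨⟨lift (fst _ _) ((snd _ _ ≫ eG.hom) * (fst _ _ ≫ g)⁻¹), ?_, ?_⟩⟩
    · refine CartesianMonoidalCategory.hom_ext _ _ ?_ ?_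
      · simp
      · simp [comp_mul, GrpObj.comp_inv, Θ]
    · refine CartesianMonoidalCategory.hom_ext _ _ ?_ ?_
      · simp
      · rw [Category.assoc, lift_snd, ← Category.assoc]
        simp [comp_mul, GrpObj.comp_inv, Θ]
  have hτbij := (isIso_chart_iff eG _ τ hτ.symm).mp hΘ
  set τ' := Algebra.TensorProduct.lift (Algebra.TensorProduct.includeLeft : L' →ₐ[R] L' ⊗[R] A) τ
    (fun _ _ => Commute.all _ _)
  letI := (Algebra.TensorProduct.map (j' R R' f) (AlgHom.id R A)).toRingHom.toAlgebra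
  haveI := isLocalization_map_j' (R := R) (R' := R') (f := f) A
  haveI : IsScalarTower R' (R' ⊗[R] A) (L' ⊗[R] A) := IsScalarTower.of_algebraMap_eq fun r => by
    show algebraMap R' L' r ⊗ₜ[R] (1 : A) = Algebra.TensorProduct.map (j' R R' f) (AlgHom.id R A) (r ⊗ₜ[R] 1)
    simp [j']
    rfl
  let i₁ : Loc₁ R f ⊗[R] A →ₐ[R] L' ⊗[R] A :=
    τ'.comp (Algebra.TensorProduct.map (j₁ R R' f) (AlgHom.id R A))
  have hK : Function.Bijective (Algebra.TensorProduct.lift (IsScalarTower.toAlgHom R' R' (L' ⊗[R] A)) i₁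
      (fun _ _ => Commute.all _ _)) := by
    let M := Algebra.TensorProduct.lift (IsScalarTower.toAlgHom R' R' L') (j₁ R R' f) (fun _ _ => Commute.all _ _)
    let E := AlgEquiv.ofBijective _ (bijective_lift_j₁ (R := R) (R' := R') (f := f))
    let P : R' ⊗[R] (Loc₁ R f ⊗[R] A) ≃ₐ[R] L' ⊗[R] A :=
      ((Algebra.TensorProduct.assoc R R R R' (Loc₁ R f) A).symm.trans
        (Algebra.TensorProduct.congr (E.restrictScalars R) AlgEquiv.refl))
    have heq : (Algebra.TensorProduct.lift (IsScalarTower.toAlgHom R' R' (L' ⊗[R] A)) i₁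
      (fun _ _ => Commute.all _ _)).restrictScalars R = τ'.comp P.toAlgHom := by
      refine Algebra.TensorProduct.ext ?_ ?_
      · ext r
        simp [P, E, τ', Algebra.TensorProduct.one_def, Algebra.TensorProduct.assoc_symm_tmul]
        rw [← Algebra.TensorProduct.one_def, map_one, _root_.mul_one]
        rfl
      · refine Algebra.TensorProduct.ext ?_ ?_
        · ext
        · ext a
          simp [P, E, i₁]
    have := congrArg DFunLike.coe heq
    simp only [AlgHom.coe_restrictScalars', AlgHom.coe_comp] at this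
    rw [this]
    exact hτbij.comp P.bijective
  obtain ⟨B, _, _, p, q, hpq, hp, hq⟩ := exists_glued h (Loc₁ R f ⊗[R] A) (R' ⊗[R] A) (L' ⊗[R] A) i₁ hK
  let eP := AlgEquiv.ofBijective _ hp
  let eQ := AlgEquiv.ofBijective _ hq
  have hB := Groth.L05.Glue.flat_finitePresentation_of_both B h
    ⟨by
      rw [RingHom.flat_algebraMap_iff]
      exact Module.Flat.of_linearEquiv eP.toLinearEquiv, by
      rw [RingHom.finitePresentation_algebraMap]
      exact Algebra.FinitePresentation.equiv eP.symm⟩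
    ⟨by
      rw [RingHom.flat_algebraMap_iff]
      exact Module.Flat.of_linearEquiv eQ.toLinearEquiv, by
      rw [RingHom.finitePresentation_algebraMap]
      exact Algebra.FinitePresentation.equiv eQ.symm⟩
  let ψ' : sp R R' ⊗ G ⟶ sp R B := sp R R' ◁ eG.inv ≫ (spI R' A).inv ≫ spMap p
  let ψ₁ : sp R (Loc₁ R f) ⊗ G ⟶ sp R B := sp R (Loc₁ R f) ◁ eG.inv ≫ (spI (Loc₁ R f) A).inv ≫ spMap q
  refine ⟨B, inferInstance, inferInstance, RingHom.flat_algebraMap_iff.mp hB.1,
    RingHom.finitePresentation_algebraMap.mp hB.2, ψ', ψ₁, ?_, ?_, fun T s z => ?_⟩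
  · refine (isIso_chart_iff eG ψ' p (by simp [ψ'])).mpr ?_
    have heq : (Algebra.TensorProduct.lift (IsScalarTower.toAlgHom R' R' (R' ⊗[R] A)) p
        (fun _ _ => Commute.all _ _)).restrictScalars R = Algebra.TensorProduct.lift
        (Algebra.TensorProduct.includeLeft : R' →ₐ[R] R' ⊗[R] A) p (fun _ _ => Commute.all _ _) := by
      ext <;> simp [← Algebra.TensorProduct.one_def]
    rw [← heq]
    exact hp
  · refine (isIso_chart_iff eG ψ₁ q (by simp [ψ₁])).mpr ?_
    have heq : (Algebra.TensorProduct.lift (IsScalarTower.toAlgHom (Loc₁ R f) (Loc₁ R f) (Loc₁ R f ⊗[R] A)) q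
        (fun _ _ => Commute.all _ _)).restrictScalars R = Algebra.TensorProduct.lift
        (Algebra.TensorProduct.includeLeft : Loc₁ R f →ₐ[R] Loc₁ R f ⊗[R] A) q (fun _ _ => Commute.all _ _) := by
      ext <;> simp [← Algebra.TensorProduct.one_def]
    rw [← heq]
    exact hq
  · have key : ((ov' (f := f)) ▷ G) ≫ ψ' =
        lift (fst (sp R L') G) Θ ≫ ((ov₁ (R' := R') (f := f)) ▷ G) ≫ ψ₁ := by
      rw [← cancel_epi ((spI L' A).hom ≫ sp R L' ◁ eG.hom)]
      have hl : ((spI L' A).hom ≫ sp R L' ◁ eG.hom) ≫ lift (fst (sp R L') G) Θ =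
          spMap τ' ≫ (spI L' A).hom ≫ sp R L' ◁ eG.hom := by
        refine CartesianMonoidalCategory.hom_ext _ _ ?_ ?_
        · simp only [Category.assoc, lift_fst, whiskerLeft_fst, spI_hom_fst]
          rw [← spMap_comp, Algebra.TensorProduct.lift_comp_includeLeft]
        · simp only [Category.assoc, lift_snd, whiskerLeft_snd, spI_hom_snd_assoc]
          rw [← Category.assoc (spMap τ'), ← spMap_comp, Algebra.TensorProduct.lift_comp_includeRight', hτ]
          simp
      rw [← Category.assoc _ (lift _ _), hl]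
      simp only [Category.assoc, ψ', ψ₁, ← whisker_exchange_assoc, whiskerLeft_hom_inv_assoc]
      rw [← Category.assoc, spI_natural, Category.assoc, Iso.hom_inv_id_assoc, ← spMap_comp,
        ← Category.assoc (spI L' A).hom, spI_natural, Category.assoc, Iso.hom_inv_id_assoc,
        ← spMap_comp, ← spMap_comp]
      congr 1
      exact AlgHom.ext fun b => hpq b
    have h2 := congrArg (CartesianMonoidalCategory.lift s z ≫ ·) key
    simp only [lift_whiskerRight_assoc, comp_lift_assoc, lift_fst] at h2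
    refine h2.trans ?_
    congr 2
    · rw [← Category.assoc, lift_fst]
    · rw [show Θ = snd _ _ * (fst _ _ ≫ g) from rfl, comp_mul, lift_snd, ← Category.assoc, lift_fst]

end Groth.L05.TorsorGlue
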